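import Mathlib.CategoryTheory.Triangulated.TStructure.TruncLEGT
import Mathlib.CategoryTheory.Triangulated.TStructure.Heart
import Mathlib.CategoryTheory.Triangulated.Subcategory
import Mathlib.CategoryTheory.Localization.CalculusOfFractions
import Mathlib.CategoryTheory.Localization.Triangulated

/-! T-structures on Verdier quotients. -/

set_option autoImplicit false
set_option linter.unusedSectionVars false
set_option linter.style.haveILetI false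
set_option backward.isDefEq.respectTransparency false

universe v u v' u'

open CategoryTheory CategoryTheory.Limits CategoryTheory.Pretriangulated CategoryTheory.Triangulated

namespace Groth.Agent.TQuot43

variable {C : Type u} [Category.{v} C] [Preadditive C] [HasZeroObject C] [HasShift C ℤ]
  [∀ n : ℤ, (shiftFunctor C n).Additive] [Pretriangulated C] [IsTriangulated C]
  (t : TStructure C) (D : ObjectProperty C) [D.IsTriangulated] [D.IsClosedUnderIsomorphisms]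

theorem mem_truncGE (hb : ∀ X : C, t.bounded X) (h1 : ∀ X : C, D X → ∀ n : ℤ, D ((t.truncGELE n n).obj X))
    {X : C} (hX : D X) (n : ℤ) : D ((t.truncGE n).obj X) := by
  obtain ⟨a, ha⟩ := (hb X).1
  have key : ∀ k : ℕ, D ((t.truncGE (a + k)).obj X) := by
    intro k
    induction k with
    | zero =>
      haveI : t.IsGE X (a + ((0 : ℕ) : ℤ)) := t.isGE_of_ge X _ a (by omega)
      exact D.prop_of_iso (asIso ((t.truncGEπ (a + ((0 : ℕ) : ℤ))).app X)) hX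
    | succ k ih =>
      let W := (t.truncGE (a + k)).obj X
      have hL : D ((t.truncLT (a + k + 1)).obj W) :=
        D.prop_of_iso ((t.truncGELEIsoLEGE (a + k) (a + k)).app X) (h1 X hX (a + k))
      have hG : D ((t.truncGE (a + k + 1)).obj W) :=
        D.ext_of_isTriangulatedClosed₃ _ (t.triangleLTGE_distinguished (a + k + 1) W) hL ih
      haveI := t.isIso_truncGE_map_truncGEπ_app (a + k + 1) (a + k) (by omega) X
      have := D.prop_of_iso (asIso ((t.truncGE (a + k + 1)).map ((t.truncGEπ (a + k)).app X))).symm hG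
      rwa [show a + ((k + 1 : ℕ) : ℤ) = a + k + 1 by omega]
  by_cases hn : a ≤ n
  · obtain ⟨k, hk⟩ := Int.le.dest hn
    rw [← hk]
    exact key k
  · haveI : t.IsGE X n := t.isGE_of_ge X n a (by omega)
    exact D.prop_of_iso (asIso ((t.truncGEπ n).app X)) hX

theorem mem_truncLT (hb : ∀ X : C, t.bounded X) (h1 : ∀ X : C, D X → ∀ n : ℤ, D ((t.truncGELE n n).obj X))
    {X : C} (hX : D X) (n : ℤ) : D ((t.truncLT n).obj X) :=
  D.ext_of_isTriangulatedClosed₁ _ (t.triangleLTGE_distinguished n X) hX (mem_truncGE t D hb h1 hX n)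

theorem mem_third_of_pure
    (h2 : ∀ (X Y Z : C) (f : X ⟶ Y) (g : Y ⟶ Z) (h : Z ⟶ X⟦(1 : ℤ)⟧),
      Triangle.mk f g h ∈ distTriang C → t.heart X → t.heart Y → t.heart Z → D Y → D X ∧ D Z)
    (T : Triangle C) (hT : T ∈ distTriang C)
    (h₁ : t.IsLE T.obj₁ 1 ∧ t.IsGE T.obj₁ 1) (h₂ : t.IsLE T.obj₂ 1 ∧ t.IsGE T.obj₂ 1)
    (h₃ : t.IsLE T.obj₃ 1 ∧ t.IsGE T.obj₃ 1) (hD : D T.obj₂) : D T.obj₃ := by
  have hh : ∀ X : C, t.IsLE X 1 ∧ t.IsGE X 1 → t.heart ((shiftFunctor C (1 : ℤ)).obj X) := fun X h => by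
    haveI := h.1
    haveI := h.2
    exact ⟨(t.isLE_shift X 1 1 0 (by omega)).le, (t.isGE_shift X 1 1 0 (by omega)).ge⟩
  obtain ⟨-, hZ⟩ := h2 _ _ _ _ _ _ (Triangle.shift_distinguished _ hT (1 : ℤ)) (hh _ h₁) (hh _ h₂) (hh _ h₃)
    (D.le_shift (1 : ℤ) _ hD)
  exact D.prop_of_iso ((shiftFunctorCompIsoId C (1 : ℤ) (-1) (by omega)).app T.obj₃) (D.le_shift (-1 : ℤ) _ hZ)

theorem mem_truncGE_one_of_cone (hb : ∀ X : C, t.bounded X)
    (h1 : ∀ X : C, D X → ∀ n : ℤ, D ((t.truncGELE n n).obj X))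
    (h2 : ∀ (X Y Z : C) (f : X ⟶ Y) (g : Y ⟶ Z) (h : Z ⟶ X⟦(1 : ℤ)⟧),
      Triangle.mk f g h ∈ distTriang C → t.heart X → t.heart Y → t.heart Z → D Y → D X ∧ D Z)
    {X' X : C} (s : X' ⟶ X) (hs : D.trW s) [t.IsLE X 0] : D ((t.truncGE 1).obj X') := by
  obtain ⟨Z₀, g₀, d₀, hT₀, hZ₀⟩ := hs
  -- a triangle `Z → X' → X` with `Z` in `D`
  obtain ⟨Z, u, d, hT, hZ⟩ : ∃ (Z : C) (u : Z ⟶ X') (d : X ⟶ Z⟦(1 : ℤ)⟧),
      Triangle.mk u s d ∈ distTriang C ∧ D Z :=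
    ⟨_, _, _, inv_rot_of_distTriang _ hT₀, D.le_shift (-1 : ℤ) _ hZ₀⟩
  let πZ := (t.truncGEπ 1).app Z
  let πX := (t.truncGEπ 1).app X'
  let v := (t.truncGE 1).map u
  have hcomm : πZ ≫ v = u ≫ πX := (t.truncGEπ 1).naturality u |>.symm
  obtain ⟨C₀, g₁, d₁, hC₀⟩ := distinguished_cocone_triangle (u ≫ πX)
  obtain ⟨Cv, g₂, d₂, hCv⟩ := distinguished_cocone_triangle v
  haveI : t.IsLE C₀ 0 := by
    let H := someOctahedron rfl hT (rot_of_distTriang _ (t.triangleLTGE_distinguished 1 X')) hC₀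
    refine t.isLE₂ _ H.mem 0 ‹t.IsLE X 0› ?_
    haveI : t.IsLE ((t.truncLT 1).obj X') 0 := t.isLE_truncLT_obj X' 1 0 (by omega)
    haveI : t.IsLE (((t.truncLT 1).obj X')⟦(1 : ℤ)⟧) (-1) := t.isLE_shift _ 0 1 (-1) (by omega)
    exact t.isLE_of_le (((t.truncLT 1).obj X')⟦(1 : ℤ)⟧) (-1) 0 (by omega)
  haveI : t.IsLE Cv 0 := by
    let H := someOctahedron hcomm (rot_of_distTriang _ (t.triangleLTGE_distinguished 1 Z)) hCv hC₀
    refine t.isLE₂ _ (rot_of_distTriang _ H.mem) 0 ‹t.IsLE C₀ 0› ?_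
    haveI : t.IsLE ((t.truncLT 1).obj Z) 0 := t.isLE_truncLT_obj Z 1 0 (by omega)
    haveI h₁ : t.IsLE (((t.truncLT 1).obj Z)⟦(1 : ℤ)⟧) (-1) := t.isLE_shift _ 0 1 (-1) (by omega)
    haveI h₂ : t.IsLE ((((t.truncLT 1).obj Z)⟦(1 : ℤ)⟧)⟦(1 : ℤ)⟧) (-2) := t.isLE_shift _ (-1) 1 (-2) (by omega)
    exact t.isLE_of_le ((((t.truncLT 1).obj Z)⟦(1 : ℤ)⟧)⟦(1 : ℤ)⟧) (-2) 0 (by omega)
  haveI : t.IsGE Cv 0 := by
    refine t.isGE₂ _ (rot_of_distTriang _ hCv) 0 ?_ ?_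
    · haveI : t.IsGE ((t.truncGE 1).obj X') 1 := inferInstance
      exact t.isGE_of_ge ((t.truncGE 1).obj X') 0 1 (by omega)
    · haveI : t.IsGE ((t.truncGE 1).obj Z) 1 := inferInstance
      exact t.isGE_shift ((t.truncGE 1).obj Z) 1 1 0 (by omega)
  let V := (t.truncGE 1).obj Z
  have hV : D V := mem_truncGE t D hb h1 hZ 1
  let C' := Cv⟦(-1 : ℤ)⟧
  haveI : t.IsLE C' 1 := t.isLE_shift Cv 0 (-1) 1 (by omega)
  haveI : t.IsGE C' 1 := t.isGE_shift Cv 0 (-1) 1 (by omega)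
  let c : C' ⟶ V := (Triangle.mk v g₂ d₂).invRotate.mor₁
  let w := t.liftTruncLT c 1 2 (by omega)
  obtain ⟨W', g₃, d₃, hW'⟩ := distinguished_cocone_triangle w
  let H := someOctahedron (t.liftTruncLT_ι c 1 2 (by omega)) hW' (t.triangleLTGE_distinguished 2 V)
    (inv_rot_of_distTriang _ hCv)
  let P := (t.truncLT 2).obj V
  have hP : t.IsLE P 1 ∧ t.IsGE P 1 := ⟨t.isLE_truncLT_obj V 2 1 (by omega), inferInstance⟩
  have hW₁ : t.IsLE W' 1 := by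
    refine t.isLE₂ _ (rot_of_distTriang _ hW') 1 hP.1 ?_
    haveI : t.IsLE (C'⟦(1 : ℤ)⟧) 0 := t.isLE_shift C' 1 1 0 (by omega)
    exact t.isLE_of_le (C'⟦(1 : ℤ)⟧) 0 1 (by omega)
  have hW₂ : t.IsGE W' 1 := by
    refine t.isGE₂ _ (inv_rot_of_distTriang _ H.mem) 1 ?_ ?_
    · haveI : t.IsGE ((t.truncGE 2).obj V) 2 := inferInstance
      haveI : t.IsGE (((t.truncGE 2).obj V)⟦(-1 : ℤ)⟧) 3 := t.isGE_shift _ 2 (-1) 3 (by omega)
      exact t.isGE_of_ge (((t.truncGE 2).obj V)⟦(-1 : ℤ)⟧) 1 3 (by omega)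
    · exact (inferInstance : t.IsGE ((t.truncGE 1).obj X') 1)
  have hD' : D W' := mem_third_of_pure t D h2 _ hW' ⟨‹_›, ‹_›⟩ hP ⟨hW₁, hW₂⟩ (mem_truncLT t D hb h1 hV 2)
  exact D.ext_of_isTriangulatedClosed₂ _ H.mem hD' (mem_truncGE t D hb h1 hV 2)

section Quot

variable {E : Type u'} [Category.{v'} E] [Preadditive E] [HasZeroObject E] [HasShift E ℤ]
  [∀ n : ℤ, (shiftFunctor E n).Additive] [Pretriangulated E]
  (q : C ⥤ E) [q.CommShift ℤ] [q.IsTriangulated] [q.IsLocalization D.trW]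

/-- The image of a property. -/
def img (P : ObjectProperty C) : ObjectProperty E := fun Y => ∃ X : C, P X ∧ Nonempty (q.obj X ≅ Y)

instance img_closed (P : ObjectProperty C) : (img q P).IsClosedUnderIsomorphisms :=
  ⟨fun e ⟨X, hX, ⟨e'⟩⟩ => ⟨X, hX, ⟨e' ≪≫ e⟩⟩⟩

theorem img_shift (P P' : ObjectProperty C) (a : ℤ) (h : ∀ X, P X → P' (X⟦a⟧)) (Y : E) (hY : img q P Y) :
    img q P' (Y⟦a⟧) := by
  obtain ⟨X, hX, ⟨e⟩⟩ := hY
  exact ⟨X⟦a⟧, h X hX, ⟨(q.commShiftIso a).app X ≪≫ (shiftFunctor E a).mapIso e⟩⟩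

theorem map_eq_zero (hb : ∀ X : C, t.bounded X) (h1 : ∀ X : C, D X → ∀ n : ℤ, D ((t.truncGELE n n).obj X))
    (h2 : ∀ (X Y Z : C) (f : X ⟶ Y) (g : Y ⟶ Z) (h : Z ⟶ X⟦(1 : ℤ)⟧),
      Triangle.mk f g h ∈ distTriang C → t.heart X → t.heart Y → t.heart Z → D Y → D X ∧ D Z)
    {X Y : C} (φ : q.obj X ⟶ q.obj Y) (hX : t.IsLE X 0) (hY : t.IsGE Y 1) : φ = 0 := by
  obtain ⟨φ', hφ⟩ := Localization.exists_rightFraction q D.trW φ
  have hG := mem_truncGE_one_of_cone t D hb h1 h2 φ'.s φ'.hs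
  have hι : D.trW ((t.truncLTι 1).app φ'.X') := ⟨_, _, _, t.triangleLTGE_distinguished 1 φ'.X', hG⟩
  haveI := Localization.inverts q D.trW _ hι
  haveI := Localization.inverts q D.trW _ φ'.hs
  haveI : t.IsLE ((t.truncLT 1).obj φ'.X') 0 := t.isLE_truncLT_obj _ 1 0 (by omega)
  have hz : (t.truncLTι 1).app φ'.X' ≫ φ'.f = 0 := t.zero _ 0 1 (by omega)
  haveI : q.Additive := inferInstance
  have hf : q.map φ'.f = 0 := by
    rw [← cancel_epi (q.map ((t.truncLTι 1).app φ'.X')), ← q.map_comp, hz, q.map_zero, comp_zero]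
  rw [hφ, ← cancel_epi (q.map φ'.s), MorphismProperty.RightFraction.map_s_comp_map, hf, comp_zero]

variable (hb : ∀ X : C, t.bounded X) (h1 : ∀ X : C, D X → ∀ n : ℤ, D ((t.truncGELE n n).obj X))
  (h2 : ∀ (X Y Z : C) (f : X ⟶ Y) (g : Y ⟶ Z) (h : Z ⟶ X⟦(1 : ℤ)⟧),
      Triangle.mk f g h ∈ distTriang C → t.heart X → t.heart Y → t.heart Z → D Y → D X ∧ D Z)

/-- The t-structure on the quotient. -/
@[implicit_reducible] def quotient : TStructure E where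
  le n := img q (t.le n)
  ge n := img q (t.ge n)
  le_shift n a n' h Y hY := img_shift q _ _ a (fun X hX => t.le_shift n a n' h X hX) Y hY
  ge_shift n a n' h Y hY := img_shift q _ _ a (fun X hX => t.ge_shift n a n' h X hX) Y hY
  zero' := by
    rintro X Y f ⟨X₀, hX₀, ⟨e⟩⟩ ⟨Y₀, hY₀, ⟨e'⟩⟩
    have := map_eq_zero t D q hb h1 h2 (e.hom ≫ f ≫ e'.inv) ⟨hX₀⟩ ⟨hY₀⟩
    rw [← cancel_epi e.hom, ← cancel_mono e'.inv, Category.assoc, this, comp_zero, zero_comp]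
  le_zero_le := fun Y ⟨X, hX, he⟩ => ⟨X, t.le_zero_le X hX, he⟩
  ge_one_le := fun Y ⟨X, hX, he⟩ => ⟨X, t.ge_one_le X hX, he⟩
  exists_triangle_zero_one A := by
    haveI := Localization.essSurj q D.trW
    obtain ⟨X, Y, hX, hY, f, g, h, hT⟩ := t.exists_triangle_zero_one (q.objPreimage A)
    let e := q.objObjPreimageIso A
    refine ⟨q.obj X, q.obj Y, ⟨X, hX, ⟨Iso.refl _⟩⟩, ⟨Y, hY, ⟨Iso.refl _⟩⟩, q.map f ≫ e.hom, e.inv ≫ q.map g,
      q.map h ≫ (q.commShiftIso (1 : ℤ)).hom.app X, isomorphic_distinguished _ (q.map_distinguished _ hT) _ ?_⟩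
    exact Triangle.isoMk _ _ (Iso.refl _) e.symm (Iso.refl _) (by simp; rfl) (by simp; rfl) (by simp; rfl)

include hb h1 h2 in
theorem existsUnique_tStructure :
    ∃ t' : TStructure E,
      (∀ (X : C) (n : ℤ), t.IsLE X n → t'.IsLE (q.obj X) n) ∧
      (∀ (X : C) (n : ℤ), t.IsGE X n → t'.IsGE (q.obj X) n) ∧
      (∀ (Y : E) (n : ℤ), t'.IsLE Y n ↔ ∃ X : C, t.IsLE X n ∧ Nonempty (q.obj X ≅ Y)) ∧
      (∀ (Y : E) (n : ℤ), t'.IsGE Y n ↔ ∃ X : C, t.IsGE X n ∧ Nonempty (q.obj X ≅ Y)) ∧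
      ∀ t'' : TStructure E,
        (∀ (X : C) (n : ℤ), t.IsLE X n → t''.IsLE (q.obj X) n) →
        (∀ (X : C) (n : ℤ), t.IsGE X n → t''.IsGE (q.obj X) n) → t'' = t' := by
  let t' := quotient t D q hb h1 h2
  refine ⟨t', fun X n h => ⟨⟨X, h.le, ⟨Iso.refl _⟩⟩⟩, fun X n h => ⟨⟨X, h.ge, ⟨Iso.refl _⟩⟩⟩,
    fun Y n => ⟨fun ⟨X, hX, he⟩ => ⟨X, ⟨hX⟩, he⟩, fun ⟨X, hX, he⟩ => ⟨⟨X, hX.le, he⟩⟩⟩,
    fun Y n => ⟨fun ⟨X, hX, he⟩ => ⟨X, ⟨hX⟩, he⟩, fun ⟨X, hX, he⟩ => ⟨⟨X, hX.ge, he⟩⟩⟩, fun t'' hle hge => ?_⟩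
  have hle' : ∀ (Y : E) (n : ℤ), t'.le n Y → t''.IsLE Y n := fun Y n ⟨X, hX, ⟨e⟩⟩ => by
    haveI := hle X n ⟨hX⟩
    exact t''.isLE_of_iso e n
  have hge' : ∀ (Y : E) (n : ℤ), t'.ge n Y → t''.IsGE Y n := fun Y n ⟨X, hX, ⟨e⟩⟩ => by
    haveI := hge X n ⟨hX⟩
    exact t''.isGE_of_iso e n
  have hcl₁ : ∀ (Y : E) (n : ℤ), t''.IsLE Y n → t'.le n Y := fun Y n hY => by
    obtain ⟨A, B, hA, hB, f, g, h, hT⟩ := t'.exists_triangle Y n (n + 1) rfl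
    haveI := hle' A n hA
    haveI := hge' B (n + 1) hB
    have hg : g = 0 := t''.zero g n (n + 1) (by omega)
    haveI : t''.IsLE (A⟦(1 : ℤ)⟧) (n - 1) := t''.isLE_shift A n 1 (n - 1) (by omega)
    obtain ⟨r, hr⟩ : ∃ r : A⟦(1 : ℤ)⟧ ⟶ B, 𝟙 B = h ≫ r :=
      Triangle.yoneda_exact₃ _ hT (𝟙 B) (by change g ≫ 𝟙 B = 0; rw [hg, zero_comp])
    rw [show r = 0 from t''.zero r (n - 1) (n + 1) (by omega), comp_zero] at hr
    haveI : IsIso f := (Triangle.isZero₃_iff_isIso₁ _ hT).1 ((IsZero.iff_id_eq_zero B).2 hr)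
    exact (t'.le n).prop_of_iso (asIso f) hA
  have hcl₂ : ∀ (Y : E) (n : ℤ), t''.IsGE Y n → t'.ge n Y := fun Y n hY => by
    obtain ⟨A, B, hA, hB, f, g, h, hT⟩ := t'.exists_triangle Y (n - 1) n (by omega)
    haveI := hle' A (n - 1) hA
    haveI := hge' B n hB
    haveI : t''.IsGE (B⟦(-1 : ℤ)⟧) (n + 1) := t''.isGE_shift B n (-1) (n + 1) (by omega)
    have hf : f = 0 := t''.zero f (n - 1) n (by omega)
    obtain ⟨r, hr⟩ : ∃ r : A ⟶ B⟦(-1 : ℤ)⟧, 𝟙 A = r ≫ (Triangle.mk f g h).invRotate.mor₁ :=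
      Triangle.coyoneda_exact₂ _ (inv_rot_of_distTriang _ hT) (𝟙 A) (by change 𝟙 A ≫ f = 0; rw [hf, comp_zero])
    rw [show r = 0 from t''.zero r (n - 1) (n + 1) (by omega), zero_comp] at hr
    haveI : IsIso g := (Triangle.isZero₁_iff_isIso₂ _ hT).1 ((IsZero.iff_id_eq_zero A).2 hr)
    exact (t'.ge n).prop_of_iso (asIso g).symm hB
  have ele : t''.le = t'.le := funext fun n => funext fun Y =>
    propext ⟨fun h => hcl₁ Y n ⟨h⟩, fun h => (hle' Y n h).le⟩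
  have ege : t''.ge = t'.ge := funext fun n => funext fun Y =>
    propext ⟨fun h => hcl₂ Y n ⟨h⟩, fun h => (hge' Y n h).ge⟩
  cases ht : t'
  cases t''
  simp only [ht] at ele ege
  subst ele ege
  rfl

end Quot

end Groth.Agent.TQuot43
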